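import Groth.Agent.FlatA.GlueTwo

/-!
# Gluing finitely many families over opens meeting in a common open
-/

set_option autoImplicit false
universe u

open CategoryTheory Limits AlgebraicGeometry TopologicalSpace

namespace K263.FinGlue

/-- cancelling a monomorphism in a pullback square -/
theorem isPullback_comp_mono_iff {C : Type*} [Category C] {Z X A V Y : C} {a : Z ⟶ X} {b : Z ⟶ A}
    {g : X ⟶ V} {j : A ⟶ V} (m : V ⟶ Y) [Mono m] :
    IsPullback a b (g ≫ m) (j ≫ m) ↔ IsPullback a b g j := by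
  constructor
  · intro h
    have w : a ≫ g = b ≫ j := by
      rw [← cancel_mono m, Category.assoc, Category.assoc]
      exact h.w
    refine ⟨⟨w⟩, ⟨PullbackCone.IsLimit.mk w (fun s => h.lift s.fst s.snd (by rw [reassoc_of% s.condition])) ?_ ?_ ?_⟩⟩
    · intro s; exact h.lift_fst _ _ _
    · intro s; exact h.lift_snd _ _ _
    · intro s l h1 h2
      apply h.hom_ext
      · rw [h1, h.lift_fst]
      · rw [h2, h.lift_snd]
  · intro h
    refine ⟨⟨by rw [reassoc_of% h.w]⟩, ⟨PullbackCone.IsLimit.mk _ (fun s => h.lift s.fst s.snd (by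
      rw [← cancel_mono m, Category.assoc, Category.assoc]; exact s.condition)) ?_ ?_ ?_⟩⟩
    · intro s; exact h.lift_fst _ _ _
    · intro s; exact h.lift_snd _ _ _
    · intro s l h1 h2
      apply h.hom_ext
      · rw [h1, h.lift_fst]
      · rw [h2, h.lift_snd]

variable {T W Z : Scheme.{u}} (w : W ⟶ T) [IsOpenImmersion w] (F : Z ⟶ W) {ι : Type*} [DecidableEq ι]
  (U : ι → Scheme.{u}) (u : ∀ i, U i ⟶ T) [∀ i, IsOpenImmersion (u i)] (w' : ∀ i, W ⟶ U i)
  (hw : ∀ i, w' i ≫ u i = w)
  (hdisj : ∀ i j, i ≠ j → ∀ x, x ∈ Set.range (u i) → x ∈ Set.range (u j) → x ∈ Set.range w)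
  (Y : ι → Scheme.{u}) (q : ∀ i, Y i ⟶ U i) (a : ∀ i, Z ⟶ Y i) (ha : ∀ i, IsPullback (a i) F (q i) (w' i))

include hw hdisj ha

theorem exists_glue_finset (s : Finset ι) (hs : s.Nonempty) :
    ∃ (X : Scheme.{u}) (p : X ⟶ T) (b : ∀ i, i ∈ s → (Y i ⟶ X)) (c : Z ⟶ X),
      (∀ i hi, IsPullback (b i hi) (q i) p (u i)) ∧ (∀ i hi, a i ≫ b i hi = c) ∧ IsPullback c F p w ∧
      ∀ x : X, ∃ i ∈ s, p x ∈ Set.range (u i) := by
  induction hs using Finset.Nonempty.cons_induction with
  | singleton i =>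
    refine ⟨Y i, q i ≫ u i, fun j hj => eqToHom (by rw [Finset.mem_singleton.1 hj]), a i, ?_, ?_, ?_, ?_⟩
    · intro j hj
      obtain rfl := Finset.mem_singleton.1 hj
      have h1 : IsPullback (𝟙 (Y j)) (q j) (q j) (𝟙 (U j)) := IsPullback.of_horiz_isIso ⟨by simp⟩
      have h2 := (isPullback_comp_mono_iff (u j)).2 h1
      rw [Category.id_comp] at h2
      simpa using h2
    · intro j hj
      obtain rfl := Finset.mem_singleton.1 hj
      simp
    · have h2 := (isPullback_comp_mono_iff (u i)).2 (ha i)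
      rwa [hw] at h2
    · intro x
      exact ⟨i, Finset.mem_singleton_self i, q i x, rfl⟩
  | cons j s hj hs ih =>
    obtain ⟨X, p, b, c, h1, h2, h3, h4⟩ := ih
    let D : T.Opens := ⨆ i ∈ s, (u i).opensRange
    have hD : ∀ x : T, x ∈ D ↔ ∃ i ∈ s, x ∈ Set.range (u i) := by
      intro x
      simp [D]
    have hr : Set.range p ⊆ Set.range D.ι := by
      rintro _ ⟨x, rfl⟩
      rw [Scheme.Opens.range_ι]
      exact (hD _).2 (h4 x)
    let π₁ : X ⟶ D := IsOpenImmersion.lift D.ι p hr
    have hπ₁ : π₁ ≫ D.ι = p := IsOpenImmersion.lift_fac _ _ _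
    have hwD : ∀ i ∈ s, Set.range (u i) ⊆ Set.range D.ι := by
      rintro i hi x hx
      rw [Scheme.Opens.range_ι]
      exact (hD x).2 ⟨i, hi, hx⟩
    have hwr : Set.range w ⊆ Set.range D.ι := by
      obtain ⟨i, hi⟩ := hs
      refine subset_trans ?_ (hwD i hi)
      rintro _ ⟨x, rfl⟩
      exact ⟨w' i x, by rw [← hw i]; rfl⟩
    let wD : W ⟶ D := IsOpenImmersion.lift D.ι w hwr
    have hwDι : wD ≫ D.ι = w := IsOpenImmersion.lift_fac _ _ _
    have hE : IsPullback wD (w' j) D.ι (u j) := by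
      have hoi : IsOpenImmersion (w' j) := by
        have : IsOpenImmersion (w' j ≫ u j) := by rw [hw]; infer_instance
        exact IsOpenImmersion.of_comp (w' j) (u j)
      refine IsOpenImmersion.isPullback _ _ _ _ (by rw [hw, hwDι]) ?_
      ext x
      rw [Scheme.Opens.opensRange_ι]
      constructor
      · intro hx
        have hx' : u j x ∈ D := hx
        obtain ⟨i, hi, hxi⟩ := (hD _).1 hx'
        have hne : i ≠ j := fun h => hj (h ▸ hi)
        obtain ⟨y, hy⟩ := hdisj i j hne _ hxi ⟨x, rfl⟩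
        refine ⟨y, ?_⟩
        apply (u j).isOpenEmbedding.injective
        rw [← hy, ← Scheme.Hom.comp_apply, hw]
      · rintro ⟨y, rfl⟩
        have h5 : u j (w' j y) ∈ D := by
          rw [← Scheme.Hom.comp_apply, hw]
          obtain ⟨i, hi⟩ := hs
          refine (hD _).2 ⟨i, hi, w' i y, ?_⟩
          rw [← Scheme.Hom.comp_apply, hw]
        exact h5
    have hp1 : IsPullback c F π₁ wD := by
      rw [← isPullback_comp_mono_iff D.ι, hπ₁, hwDι]
      exact h3
    obtain ⟨X', π, i₁, i₂, o1, o2, g1, g2, g3, g4⟩ := Groth.Agent.FlatA.GlueTwo.exists_glued hE hp1 (ha j)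
    refine ⟨X', π, fun i hi => if h : i = j then eqToHom (by rw [h]) ≫ i₂ else
      b i ((Finset.mem_cons.1 hi).resolve_left h) ≫ i₁, c ≫ i₁, ?_, ?_, ?_, ?_⟩
    · intro i hi
      by_cases h : i = j
      · subst h
        simpa using g2
      · have hi' := (Finset.mem_cons.1 hi).resolve_left h
        simp only [h, dif_neg, not_false_iff]
        let uD : U i ⟶ D := IsOpenImmersion.lift D.ι (u i) (hwD i hi')
        have huD : uD ≫ D.ι = u i := IsOpenImmersion.lift_fac _ _ _
        have k1 : IsPullback (b i hi') (q i) π₁ uD := by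
          rw [← isPullback_comp_mono_iff D.ι, hπ₁, huD]
          exact h1 i hi'
        have k2 := k1.paste_horiz g1
        rwa [huD] at k2
    · intro i hi
      by_cases h : i = j
      · subst h
        simp [g3]
      · have hi' := (Finset.mem_cons.1 hi).resolve_left h
        simp only [h, dif_neg, not_false_iff]
        rw [← Category.assoc, h2 i hi']
    · have k2 := hp1.paste_horiz g1
      rwa [hwDι] at k2
    · intro x
      rcases g4 x with ⟨y, rfl⟩ | ⟨y, rfl⟩
      · obtain ⟨i, hi, h⟩ := h4 y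
        refine ⟨i, Finset.mem_cons_of_mem hi, ?_⟩
        rw [← Scheme.Hom.comp_apply, g1.w, hπ₁]
        exact h
      · refine ⟨j, Finset.mem_cons_self j s, q j y, ?_⟩
        rw [← Scheme.Hom.comp_apply, ← Scheme.Hom.comp_apply, g2.w]

end K263.FinGlue
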