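import Mathlib.AlgebraicGeometry.OpenImmersion
import Mathlib.RingTheory.Localization.LocalizationLocalization
import Mathlib.RingTheory.Localization.AtPrime.Basic
import Mathlib.RingTheory.QuasiFinite.Basic
import Mathlib.RingTheory.DedekindDomain.Basic

/-!
# Local rings of a ring with finitely many primes are open in the spectrum
-/

set_option autoImplicit false
universe u

open CategoryTheory Limits AlgebraicGeometry TopologicalSpace

namespace K263.FinLoc

variable {A : Type u} [CommRing A] [Finite (PrimeSpectrum A)] (M : Ideal A) [M.IsPrime]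

/-- in a ring with finitely many primes there is an element outside `M` in every prime not below `M` -/
theorem exists_away : ∃ f : A, f ∉ M ∧ ∀ P : Ideal A, P.IsPrime → ¬ P ≤ M → f ∈ P := by
  classical
  cases nonempty_fintype (PrimeSpectrum A)
  let s : Finset (PrimeSpectrum A) := Finset.univ.filter (fun P => ¬ P.asIdeal ≤ M)
  have h : ∀ P : PrimeSpectrum A, ∃ f : A, ¬ P.asIdeal ≤ M → (f ∈ P.asIdeal ∧ f ∉ M) := by
    intro P
    by_cases hP : P.asIdeal ≤ M
    · exact ⟨0, fun h => absurd hP h⟩
    · obtain ⟨f, hf, hf'⟩ := SetLike.not_le_iff_exists.1 hP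
      exact ⟨f, fun _ => ⟨hf, hf'⟩⟩
  choose F hF using h
  refine ⟨∏ P ∈ s, F P, ?_, ?_⟩
  · intro hm
    obtain ⟨P, hP, hPM⟩ := (Ideal.IsPrime.prod_mem_iff (p := M)).1 hm
    exact (hF P (Finset.mem_filter.1 hP).2).2 hPM
  · intro P hP hPM
    have h1 : (⟨P, hP⟩ : PrimeSpectrum A) ∈ s := by simp [s, hPM]
    exact (Ideal.IsPrime.prod_mem_iff (p := P)).2 ⟨_, h1, (hF ⟨P, hP⟩ hPM).1⟩

omit [Finite (PrimeSpectrum A)] in
/-- the local ring at a prime of a ring with finitely many primes is a localization at one element -/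
theorem isLocalization_away {f : A} (hf : f ∉ M) (hf' : ∀ P : Ideal A, P.IsPrime → ¬ P ≤ M → f ∈ P)
    (B : Type u) [CommRing B] [Algebra A B] [IsLocalization.AtPrime B M] : IsLocalization.Away f B := by
  refine (IsLocalization.iff_of_le_of_exists_dvd (S := B) (Submonoid.powers f) M.primeCompl ?_ ?_).2
    inferInstance
  · rintro _ ⟨n, rfl⟩
    exact fun h => hf (Ideal.IsPrime.mem_of_pow_mem inferInstance n h)
  · rintro x hx
    have h2 : f ∈ (Ideal.span {x}).radical := by
      rw [Ideal.radical_eq_sInf, Ideal.mem_sInf]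
      rintro P ⟨hP, hP'⟩
      refine hf' P hP' (fun hle => hx (hle (hP (Ideal.mem_span_singleton_self x))))
    obtain ⟨n, hn⟩ := h2
    exact ⟨f ^ n, ⟨n, rfl⟩, Ideal.mem_span_singleton.1 hn⟩

/-- the spectrum of the local ring is open in the spectrum -/
theorem isOpenImmersion (B : Type u) [CommRing B] [Algebra A B] [IsLocalization.AtPrime B M] :
    IsOpenImmersion (Spec.map (CommRingCat.ofHom (algebraMap A B))) := by
  obtain ⟨f, hf, hf'⟩ := exists_away M
  have := isLocalization_away M hf hf' B
  exact IsOpenImmersion.of_isLocalization f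

omit [Finite (PrimeSpectrum A)] in
/-- the image of the spectrum of the local ring: the primes below `M` -/
theorem mem_range_iff (B : Type u) [CommRing B] [Algebra A B] [IsLocalization.AtPrime B M]
    (x : Spec (CommRingCat.of A)) :
    x ∈ Set.range (Spec.map (CommRingCat.ofHom (algebraMap A B))) ↔ PrimeSpectrum.asIdeal x ≤ M := by
  have h := PrimeSpectrum.localization_comap_range B M.primeCompl
  have h2 : x ∈ Set.range (PrimeSpectrum.comap (algebraMap A B)) ↔
      Disjoint (M.primeCompl : Set A) (PrimeSpectrum.asIdeal x) := by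
    rw [h]; rfl
  refine Iff.trans (Iff.refl _) (h2.trans ?_)
  rw [Set.disjoint_left]
  constructor
  · intro h x hx
    by_contra hxM
    exact h hxM hx
  · intro h x hx hx'
    exact hx (h hx')

end K263.FinLoc
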