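import Groth.Prelude.Def_StCurv
import Groth.Agent.CurvSt.K263.FinGlue
import Groth.Agent.CurvSt.K263.FinLoc

/-!
# Unmarked stable families are local on the base; gluing over the spectrum of a semilocal Dedekind domain
-/

set_option autoImplicit false
universe u

open CategoryTheory Limits AlgebraicGeometry TopologicalSpace

namespace K263.StabLoc

/-- a property local on the target, from pullback squares over an open cover -/
theorem of_squares (P : MorphismProperty Scheme.{u}) [IsZariskiLocalAtTarget P] {C T : Scheme.{u}} (p : C ⟶ T)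
    {ι : Type u} {U : ι → Scheme.{u}} (u : ∀ i, U i ⟶ T)
    [∀ i, IsOpenImmersion (u i)] (hcov : ∀ x : T, ∃ i, x ∈ Set.range (u i)) {Y : ι → Scheme.{u}}
    {q : ∀ i, Y i ⟶ U i} {b : ∀ i, Y i ⟶ C} (hb : ∀ i, IsPullback (b i) (q i) p (u i))
    (h : ∀ i, P (q i)) : P p := by
  let 𝒰 : T.OpenCover := Scheme.Cover.mkOfCovers ι U u (fun x => by
    obtain ⟨i, y, hy⟩ := hcov x
    exact ⟨i, y, hy⟩) (fun i => inferInstance)
  have key : ∀ i : ι, P (pullback.snd p (u i)) := by
    intro i
    have h1 : IsPullback (pullback.fst p (u i)) (pullback.snd p (u i)) p (u i) := IsPullback.of_hasPullback _ _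
    have h2 : pullback.snd p (u i) = (h1.isoIsPullback _ _ (hb i)).hom ≫ q i := by
      rw [IsPullback.isoIsPullback_hom_snd]
    rw [h2]
    exact (MorphismProperty.cancel_left_of_respectsIso P _ _).2 (h i)
  exact IsZariskiLocalAtTarget.of_openCover (P := P) 𝒰 key

/-- being an unmarked stable family is local on the base -/
theorem isStableFam_of_cover {C T : Scheme.{u}} (p : C ⟶ T) {ι : Type u} {U : ι → Scheme.{u}} (u : ∀ i, U i ⟶ T)
    [∀ i, IsOpenImmersion (u i)] (hcov : ∀ x : T, ∃ i, x ∈ Set.range (u i)) {Y : ι → Scheme.{u}}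
    {q : ∀ i, Y i ⟶ U i} {b : ∀ i, Y i ⟶ C} (hb : ∀ i, IsPullback (b i) (q i) p (u i)) (g : ℕ)
    (h : ∀ i, CurvSt.IsStableFam (q i) (Fin.elim0 : Fin 0 → (U i ⟶ Y i)) (fun i => i.elim0) g) :
    CurvSt.IsStableFam p (Fin.elim0 : Fin 0 → (T ⟶ C)) (fun i => i.elim0) g := by
  refine ⟨of_squares @Flat p u hcov hb (fun i => (h i).1), of_squares @IsProper p u hcov hb (fun i => (h i).2.1),
    of_squares @LocallyOfFinitePresentation p u hcov hb (fun i => (h i).2.2.1), ?_⟩
  intro Ω _ _ t X j r hP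
  obtain ⟨i, hi⟩ := hcov (t (IsLocalRing.closedPoint Ω))
  have hr : Set.range t ⊆ Set.range (u i) := by
    rintro _ ⟨x, rfl⟩
    rwa [Subsingleton.elim x (IsLocalRing.closedPoint Ω)]
  let t' : Spec (CommRingCat.of Ω) ⟶ U i := IsOpenImmersion.lift (u i) t hr
  have ht' : t' ≫ u i = t := IsOpenImmersion.lift_fac _ _ _
  have hw : j ≫ p = (r ≫ t') ≫ u i := by rw [Category.assoc, ht', hP.w]
  have h1 : IsPullback ((hb i).lift j (r ≫ t') hw) r (q i) t' := by
    refine IsPullback.of_right ?_ ((hb i).lift_snd _ _ _) (hb i)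
    rw [(hb i).lift_fst, ht']
    exact hP
  have h2 := (h i).2.2.2 Ω t' X _ r h1
  have h3 : CurvSt.markedPt (Fin.elim0 : Fin 0 → (U i ⟶ Y i)) (fun i => i.elim0) h1 =
    CurvSt.markedPt (Fin.elim0 : Fin 0 → (T ⟶ C)) (fun i => i.elim0) hP := Subsingleton.elim _ _
  rw [← h3]
  exact h2

variable {A : Type u} [CommRing A] [IsDedekindDomain A] [Finite (PrimeSpectrum A)]
  (E : Type u) [Field E] [Algebra A E] [IsFractionRing A E]
  {Z : Scheme.{u}} (F : Z ⟶ Spec (CommRingCat.of E)) (g : ℕ)

/-- stable models over the local rings of a semilocal Dedekind domain glue to a stable model -/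
theorem exists_glue (h : ∀ M : MaximalSpectrum A, ∃ (ψ : Localization.AtPrime M.asIdeal →+* E)
    (_ : ψ.comp (algebraMap A (Localization.AtPrime M.asIdeal)) = algebraMap A E)
    (Y : Scheme.{u}) (q : Y ⟶ Spec (CommRingCat.of (Localization.AtPrime M.asIdeal))) (a : Z ⟶ Y),
      IsPullback a F q (Spec.map (CommRingCat.ofHom ψ)) ∧
      CurvSt.IsStableFam q (Fin.elim0 : Fin 0 → (Spec (CommRingCat.of (Localization.AtPrime M.asIdeal)) ⟶ Y))
        (fun i => i.elim0) g) :
    ∃ (Y : Scheme.{u}) (q : Y ⟶ Spec (CommRingCat.of A)) (a : Z ⟶ Y),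
      IsPullback a F q (Spec.map (CommRingCat.ofHom (algebraMap A E))) ∧
      CurvSt.IsStableFam q (Fin.elim0 : Fin 0 → (Spec (CommRingCat.of A) ⟶ Y)) (fun i => i.elim0) g := by
  classical
  have hfin : Finite (MaximalSpectrum A) := Finite.of_injective MaximalSpectrum.toPrimeSpectrum
    MaximalSpectrum.toPrimeSpectrum_injective
  cases nonempty_fintype (MaximalSpectrum A)
  choose ψ hψ Y q a ha hq using h
  have hE : IsLocalization.AtPrime E (⊥ : Ideal A) := by
    have : (⊥ : Ideal A).primeCompl = nonZeroDivisors A := by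
      ext x; simp [Ideal.primeCompl, mem_nonZeroDivisors_iff_ne_zero]
    rw [IsLocalization.AtPrime, this]
    infer_instance
  have hw0 : IsOpenImmersion (Spec.map (CommRingCat.ofHom (algebraMap A E))) :=
    FinLoc.isOpenImmersion (⊥ : Ideal A) E
  have hu0 : ∀ M : MaximalSpectrum A, IsOpenImmersion
      (Spec.map (CommRingCat.ofHom (algebraMap A (Localization.AtPrime M.asIdeal)))) := fun M =>
    FinLoc.isOpenImmersion M.asIdeal _
  obtain ⟨X, p, b, c, h1, h2, h3, h4⟩ := FinGlue.exists_glue_finset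
    (Spec.map (CommRingCat.ofHom (algebraMap A E))) F
    (fun M : MaximalSpectrum A => Spec (CommRingCat.of (Localization.AtPrime M.asIdeal)))
    (fun M => Spec.map (CommRingCat.ofHom (algebraMap A (Localization.AtPrime M.asIdeal))))
    (fun M => Spec.map (CommRingCat.ofHom (ψ M)))
    (fun M => by rw [← Spec.map_comp, ← CommRingCat.ofHom_comp, hψ])
    (by
      intro M N hMN x hxM hxN
      rw [FinLoc.mem_range_iff (⊥ : Ideal A) E]
      rw [FinLoc.mem_range_iff M.asIdeal] at hxM
      rw [FinLoc.mem_range_iff N.asIdeal] at hxN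
      by_contra hne
      have hx0 : PrimeSpectrum.asIdeal x ≠ ⊥ := fun h => hne (h ▸ le_rfl)
      have hmax : (PrimeSpectrum.asIdeal x).IsMaximal := Ring.DimensionLEOne.maximalOfPrime hx0 x.2
      have e1 := hmax.eq_of_le M.isMaximal.ne_top hxM
      have e2 := hmax.eq_of_le N.isMaximal.ne_top hxN
      exact hMN (MaximalSpectrum.ext (e1.symm.trans e2)))
    Y q a ha Finset.univ Finset.univ_nonempty
  refine ⟨X, p, c, h3, isStableFam_of_cover p
    (fun M : MaximalSpectrum A => Spec.map (CommRingCat.ofHom (algebraMap A (Localization.AtPrime M.asIdeal))))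
    ?_ (fun M => h1 M (Finset.mem_univ M)) g hq⟩
  intro x
  obtain ⟨M, hM, hxM⟩ := Ideal.exists_le_maximal (PrimeSpectrum.asIdeal x) x.2.ne_top
  exact ⟨⟨M, hM⟩, (FinLoc.mem_range_iff M _ x).2 hxM⟩

end K263.StabLoc
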