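import Groth.Agent.Models.H56.Core
import Groth.Agent.Models.H58.ExtFinal
import Groth.Agent.Models.H58.Final
import Groth.Agent.CurvSt.K263.StabLoc
import Mathlib.RingTheory.DedekindDomain.IntegralClosure
import Mathlib.RingTheory.DedekindDomain.Dvr
import Mathlib.RingTheory.DedekindDomain.Instances

/-!
# Stable reduction over the whole integral closure

Over a finite separable extension `E` of the fraction field of the discrete valuation ring `R` over which the curve
has a rational point and full `l`-torsion, the curve has semistable reduction at every discrete valuation ring with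
fraction field `E` dominating `R`; the stable models over the local rings of the integral closure of `R` in `E` glue.
-/

set_option autoImplicit false
universe u
open CategoryTheory CategoryTheory.Limits AlgebraicGeometry

attribute [-instance] instAlgebraAtPrimeFractionRing

namespace K263.StabInt

open Groth.Agent.Grpsch.PicGrp Groth.Agent.CurvesB
open Groth.Agent.Picfga.FieldSections Groth.Agent.Models.H58 Groth.Agent.Models.H58.GalDesc
open Groth.Agent.Models.H58.ExtMain Groth.Agent.Models.H58.Final

variable (R : Type u) [CommRing R] [IsDomain R] [IsDiscreteValuationRing R]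
  (C : Scheme.{u}) (f : C ⟶ Spec (CommRingCat.of (FractionRing R)))

/-- The base change of the curve to the fraction field of any discrete valuation ring dominating `R` with fraction
field `E`. -/
theorem semistable_at {N : ℕ} (hCore : CoreAt.{u} (Models.curveGenus (FractionRing R) C f) N)
    (hC : Curve.IsSmoothProperCurve (FractionRing R) C f) (hH0 : IsIso f.appTop)
    (l : ℕ) (hlp : l.Prime) (hl : N < l) (hlk : (l : IsLocalRing.ResidueField R) ≠ 0)
    (E : Type u) [Field E] [Algebra (FractionRing R) E] [FiniteDimensional (FractionRing R) E]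
    [Algebra.IsSeparable (FractionRing R) E]
    (t : Spec (CommRingCat.of E) ⟶ C) (ht : t ≫ f = bc (FractionRing R) E)
    (hEc : Nat.card (Tors (pullback f (bc (FractionRing R) E)) l) =
      l ^ (2 * Models.curveGenus (FractionRing R) C f))
    (R' : Type u) [CommRing R'] [IsDomain R'] [IsDiscreteValuationRing R'] (φ : R →+* R') (hφ : IsLocalHom φ)
    (e : E ≃+* FractionRing R') (ψ : FractionRing R →+* FractionRing R')
    (hψe : ψ = (e : E →+* FractionRing R').comp (algebraMap (FractionRing R) E)) :
    Curve.IsSmoothProperCurve (FractionRing R') (pullback f (Spec.map (CommRingCat.ofHom ψ)))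
        (pullback.snd f (Spec.map (CommRingCat.ofHom ψ))) ∧
      IsIso (pullback.snd f (Spec.map (CommRingCat.ofHom ψ))).appTop ∧
      Models.curveGenus (FractionRing R') (pullback f (Spec.map (CommRingCat.ofHom ψ)))
        (pullback.snd f (Spec.map (CommRingCat.ofHom ψ))) = Models.curveGenus (FractionRing R) C f ∧
      Models.HasSemistableReduction R' (pullback f (Spec.map (CommRingCat.ofHom ψ)))
        (pullback.snd f (Spec.map (CommRingCat.ofHom ψ))) := by
  subst hψe
  let ψ : FractionRing R →+* FractionRing R' := (e : E →+* FractionRing R').comp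
    (algebraMap (FractionRing R) E)
  letI : Algebra (FractionRing R) (FractionRing R') := ψ.toAlgebra
  let ea : E ≃ₐ[FractionRing R] FractionRing R' := AlgEquiv.ofRingEquiv (f := e) (fun r => rfl)
  have hfin : FiniteDimensional (FractionRing R) (FractionRing R') :=
    Module.Finite.equiv ea.toLinearEquiv
  have hsep : Algebra.IsSeparable (FractionRing R) (FractionRing R') :=
    Algebra.IsSeparable.of_algHom (FractionRing R) E ea.symm.toAlgHom
  have H : IsPullback (pullback.fst f (Spec.map (CommRingCat.ofHom ψ)))
      (pullback.snd f (Spec.map (CommRingCat.ofHom ψ))) f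
      (Spec.map (CommRingCat.ofHom (algebraMap (FractionRing R) (FractionRing R')))) :=
    IsPullback.of_hasPullback f (Spec.map (CommRingCat.ofHom ψ))
  have hC' := CurveBC.isSmoothProperCurve H hC hH0
  have hp := hC.1
  have hc : CompactSpace C := (quasiCompact_iff_compactSpace f).mp inferInstance
  have hq : QuasiSeparatedSpace C := (quasiSeparated_iff_quasiSeparatedSpace f).mp inferInstance
  have hH0' := CurveBC.isIso_appTop H hH0
  have hgen := CurveBC.curveGenus_eq H
  have hψ : Spec.map (CommRingCat.ofHom ψ) =
      Spec.map (CommRingCat.ofHom (e : E →+* FractionRing R')) ≫ bc (FractionRing R) E := by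
    rw [bc, ← Spec.map_comp, ← CommRingCat.ofHom_comp]
  have hiso : IsIso (Spec.map (CommRingCat.ofHom (e : E →+* FractionRing R'))) := by
    have : IsIso (CommRingCat.ofHom (e : E →+* FractionRing R')) :=
      inferInstanceAs (IsIso e.toCommRingCatIso.hom)
    infer_instance
  refine ⟨hC', hH0', hgen, ?_⟩
  refine hCore R' _ _ hC' hH0'
    (pullback.lift (Spec.map (CommRingCat.ofHom (e : E →+* FractionRing R')) ≫ t) (𝟙 _)
      (by rw [Category.assoc, ht, ← hψ, Category.id_comp])) (pullback.lift_snd _ _ _)
    hgen l hlp ?_ hl ?_
  · intro h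
    apply hlk
    have h1 : IsLocalRing.ResidueField.map φ (l : IsLocalRing.ResidueField R) =
        (l : IsLocalRing.ResidueField R') := map_natCast _ _
    rw [h] at h1
    exact (map_eq_zero _).mp h1
  · rw [← hEc]
    have H2 : IsPullback (pullback.fst f (Spec.map (CommRingCat.ofHom ψ)))
        (pullback.snd f (Spec.map (CommRingCat.ofHom ψ)) ≫
          Spec.map (CommRingCat.ofHom (e : E →+* FractionRing R'))) f (bc (FractionRing R) E) := by
      have h3 := IsPullback.of_hasPullback f (Spec.map (CommRingCat.ofHom ψ))
      refine IsPullback.of_iso h3 (Iso.refl _) (Iso.refl _)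
        (asIso (Spec.map (CommRingCat.ofHom (e : E →+* FractionRing R')))) (Iso.refl _) ?_ ?_ ?_ ?_
      · simp
      · simp
      · simp
      · simp [hψ]
    exact card_tors_congr H2.isoPullback l

/-- the statement that semistable reduction gives a stable model, over all discrete valuation rings -/
def StabMod : Prop := ∀ (R : Type u) [CommRing R] [IsDomain R] [IsDiscreteValuationRing R]
    (C : Scheme.{u}) (f : C ⟶ Spec (CommRingCat.of (FractionRing R)))
    (_ : Curve.IsSmoothProperCurve (FractionRing R) C f) (_ : IsIso f.appTop)
    (_ : 2 ≤ Models.curveGenus (FractionRing R) C f),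
    Models.HasSemistableReduction R C f →
      ∃ (Y : Scheme.{u}) (q : Y ⟶ Spec (CommRingCat.of R)), Models.IsModel R Y q C f ∧
        CurvSt.IsStableFam q (Fin.elim0 : Fin 0 → (Spec (CommRingCat.of R) ⟶ Y)) (fun i => i.elim0)
          (Models.curveGenus (FractionRing R) C f)

/-- **Stable reduction over the integral closure**, from the existence of stable models over the discrete valuation
rings. -/
theorem main (hS : StabMod.{u})
    (hC : Curve.IsSmoothProperCurve (FractionRing R) C f) (hH0 : IsIso f.appTop)
    (hg : 2 ≤ Models.curveGenus (FractionRing R) C f) :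
    ∃ (L : Type u) (_ : Field L) (_ : Algebra (FractionRing R) L) (_ : Algebra R L)
      (_ : IsScalarTower R (FractionRing R) L),
      FiniteDimensional (FractionRing R) L ∧ Algebra.IsSeparable (FractionRing R) L ∧
      ∃ (Y : Scheme.{u}) (q : Y ⟶ Spec (CommRingCat.of ↥(integralClosure R L)))
        (i : pullback f (Spec.map (CommRingCat.ofHom (algebraMap (FractionRing R) L))) ⟶ Y),
        IsPullback i (pullback.snd f (Spec.map (CommRingCat.ofHom (algebraMap (FractionRing R) L)))) q
          (Spec.map (CommRingCat.ofHom (algebraMap ↥(integralClosure R L) L))) ∧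
        CurvSt.IsStableFam q (Fin.elim0 : Fin 0 → (Spec (CommRingCat.of ↥(integralClosure R L)) ⟶ Y))
          (fun i => i.elim0) (Models.curveGenus (FractionRing R) C f) := by
  obtain ⟨l, hlp, hl, hlk, hle⟩ := exists_prime (768 * Models.curveGenus (FractionRing R) C f)
    (IsLocalRing.ResidueField R)
  obtain ⟨E, iE, iKE, hEf, hEs, -, ⟨t, ht⟩, hEc⟩ := ExtFinal.exists_ext f hC hH0 hg l
    (natCast_ne_zero R l hlk)
  let iRE : Algebra R E := ((algebraMap (FractionRing R) E).comp (algebraMap R (FractionRing R))).toAlgebra
  have iT : IsScalarTower R (FractionRing R) E := IsScalarTower.of_algebraMap_eq (fun _ => rfl)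
  refine ⟨E, iE, iKE, iRE, iT, hEf, hEs, ?_⟩
  have hB : IsDedekindDomain (integralClosure R E) := integralClosure.isDedekindDomain R (FractionRing R) E
  have hfrac : IsFractionRing (integralClosure R E) E :=
    integralClosure.isFractionRing_of_finite_extension (FractionRing R) E
  have hfin : Module.Finite R (integralClosure R E) := IsIntegralClosure.finite R (FractionRing R) E _
  have hspec : Finite (PrimeSpectrum R) := by
    refine Finite.of_injective (fun P : PrimeSpectrum R => P.asIdeal = ⊥) ?_
    intro P Q hPQ
    have hPQ' : P.asIdeal = ⊥ ↔ Q.asIdeal = ⊥ := iff_of_eq hPQ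
    ext1
    by_cases hP : P.asIdeal = ⊥
    · rw [hP, hPQ'.1 hP]
    · have hQ : Q.asIdeal ≠ ⊥ := fun h => hP (hPQ'.2 h)
      have h1 : P.asIdeal.IsMaximal := Ring.DimensionLEOne.maximalOfPrime hP P.2
      have h2 : Q.asIdeal.IsMaximal := Ring.DimensionLEOne.maximalOfPrime hQ Q.2
      rw [IsLocalRing.eq_maximalIdeal h1, IsLocalRing.eq_maximalIdeal h2]
  have hspec' : Finite (PrimeSpectrum (integralClosure R E)) :=
    Algebra.QuasiFinite.finite_primeSpectrum R _
  have hinj : Function.Injective (algebraMap R (integralClosure R E)) := by
    have h1 : Function.Injective (algebraMap R E) :=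
      (algebraMap (FractionRing R) E).injective.comp (IsFractionRing.injective R (FractionRing R))
    intro a b hab
    apply h1
    exact congrArg (algebraMap (integralClosure R E) E) hab
  have hint : Algebra.IsIntegral R (integralClosure R E) := inferInstance
  refine StabLoc.exists_glue E (pullback.snd f (Spec.map (CommRingCat.ofHom (algebraMap (FractionRing R) E)))) _ ?_
  intro M'
  obtain ⟨M, hM⟩ := M'
  change ∃ (ψ : Localization.AtPrime M →+* E)
    (_ : ψ.comp (algebraMap (integralClosure R E) (Localization.AtPrime M)) = algebraMap (integralClosure R E) E)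
    (Y : Scheme.{u}) (q : Y ⟶ Spec (CommRingCat.of (Localization.AtPrime M))) (a : _ ⟶ Y),
      IsPullback a _ q (Spec.map (CommRingCat.ofHom ψ)) ∧
      CurvSt.IsStableFam q (Fin.elim0 : Fin 0 → (Spec (CommRingCat.of (Localization.AtPrime M)) ⟶ Y))
        (fun i => i.elim0) _
  have hMc : M.comap (algebraMap R (integralClosure R E)) = IsLocalRing.maximalIdeal R := by
    have : (M.comap (algebraMap R (integralClosure R E))).IsMaximal :=
      Ideal.isMaximal_comap_of_isIntegral_of_isMaximal M
    exact IsLocalRing.eq_maximalIdeal this
  have hM0 : M ≠ ⊥ := by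
    rintro rfl
    have h1 : IsLocalRing.maximalIdeal R = ⊥ := by
      rw [← hMc, ← RingHom.ker_eq_comap_bot]
      exact (RingHom.injective_iff_ker_eq_bot _).mp hinj
    exact IsDiscreteValuationRing.not_a_field R h1
  have hR'd : IsDomain (Localization.AtPrime M) :=
    IsLocalization.isDomain_localization M.primeCompl_le_nonZeroDivisors
  have hR' : IsDiscreteValuationRing (Localization.AtPrime M) :=
    IsLocalization.AtPrime.isDiscreteValuationRing_of_dedekind_domain (integralClosure R E) hM0 _
  let ψ₀ : Localization.AtPrime M →+* E := IsLocalization.lift (M := M.primeCompl) (S := Localization.AtPrime M)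
    (g := algebraMap (integralClosure R E) E) (by
    intro y
    rw [isUnit_iff_ne_zero]
    intro h
    have h2 : (y : integralClosure R E) = 0 := IsFractionRing.injective (integralClosure R E) E (by rw [h, map_zero])
    exact y.2 (h2 ▸ M.zero_mem))
  have hψ₀ : ψ₀.comp (algebraMap (integralClosure R E) (Localization.AtPrime M)) =
      algebraMap (integralClosure R E) E := IsLocalization.lift_comp _
  let _ : Algebra (Localization.AtPrime M) E := ψ₀.toAlgebra
  have _ : IsScalarTower (integralClosure R E) (Localization.AtPrime M) E :=
    IsScalarTower.of_algebraMap_eq (fun x => (IsLocalization.lift_eq _ x).symm)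
  have hfrac' : IsFractionRing (Localization.AtPrime M) E :=
    IsFractionRing.isFractionRing_of_isDomain_of_isLocalization M.primeCompl (Localization.AtPrime M) E
  let e : FractionRing (Localization.AtPrime M) ≃ₐ[Localization.AtPrime M] E :=
    FractionRing.algEquiv (Localization.AtPrime M) E
  let e' : E ≃+* FractionRing (Localization.AtPrime M) := e.symm.toRingEquiv
  let ψ : FractionRing R →+* FractionRing (Localization.AtPrime M) :=
    (e' : E →+* FractionRing (Localization.AtPrime M)).comp (algebraMap (FractionRing R) E)
  have hloc : IsLocalHom ((algebraMap (integralClosure R E) (Localization.AtPrime M)).comp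
      (algebraMap R (integralClosure R E))) := by
    refine ⟨fun a ha => ?_⟩
    by_contra hna
    have h1 : a ∈ IsLocalRing.maximalIdeal R := (IsLocalRing.mem_maximalIdeal a).mpr hna
    rw [← hMc] at h1
    have h2 : algebraMap (integralClosure R E) (Localization.AtPrime M) (algebraMap R (integralClosure R E) a) ∈
        IsLocalRing.maximalIdeal (Localization.AtPrime M) :=
      (IsLocalization.AtPrime.to_map_mem_maximal_iff (Localization.AtPrime M) M _).mpr h1
    exact (IsLocalRing.mem_maximalIdeal _).mp h2 ha
  obtain ⟨h1, h2, h3, h4⟩ := semistable_at R C f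
    (Groth.Agent.Models.H56.Core.coreAt _ _ (le_trans one_le_two hg) (Or.inr ⟨hg, le_rfl⟩))
    hC hH0 l hlp hl hlk E t ht hEc (Localization.AtPrime M) _ hloc e' ψ rfl
  obtain ⟨Y, q, ⟨-, -, -, γ, hγ⟩, hq⟩ := hS (Localization.AtPrime M) _ _ h1 h2 (by rw [h3]; exact hg) h4
  rw [h3] at hq
  have hψ : Spec.map (CommRingCat.ofHom ψ) =
      Spec.map (CommRingCat.ofHom (e' : E →+* FractionRing (Localization.AtPrime M))) ≫
        bc (FractionRing R) E := by
    rw [bc, ← Spec.map_comp, ← CommRingCat.ofHom_comp]
  have hiso : IsIso (Spec.map (CommRingCat.ofHom (e' : E →+* FractionRing (Localization.AtPrime M)))) := by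
    have : IsIso (CommRingCat.ofHom (e' : E →+* FractionRing (Localization.AtPrime M))) :=
      inferInstanceAs (IsIso e'.toCommRingCatIso.hom)
    infer_instance
  have hcomp : Spec.map (CommRingCat.ofHom ψ₀) =
      Spec.map (CommRingCat.ofHom (e : FractionRing (Localization.AtPrime M) →+* E)) ≫
        Spec.map (CommRingCat.ofHom (algebraMap (Localization.AtPrime M) (FractionRing (Localization.AtPrime M)))) := by
    rw [← Spec.map_comp, ← CommRingCat.ofHom_comp]
    congr 2
    ext x
    exact (e.commutes x).symm
  have hee : Spec.map (CommRingCat.ofHom (e : FractionRing (Localization.AtPrime M) →+* E)) ≫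
      Spec.map (CommRingCat.ofHom (e' : E →+* FractionRing (Localization.AtPrime M))) = 𝟙 _ := by
    rw [← Spec.map_comp, ← CommRingCat.ofHom_comp]
    have : ((e : FractionRing (Localization.AtPrime M) →+* E)).comp
        (e' : E →+* FractionRing (Localization.AtPrime M)) = RingHom.id E := by
      ext x
      exact e.apply_symm_apply x
    rw [this]
    exact Spec.map_id _
  have heψ : Spec.map (CommRingCat.ofHom (e : FractionRing (Localization.AtPrime M) →+* E)) ≫
      Spec.map (CommRingCat.ofHom ψ) = bc (FractionRing R) E := by
    rw [hψ, ← Category.assoc, hee, Category.id_comp]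
  -- the square comparing the two base changes of the curve
  have H3 : IsPullback (pullback.fst f (bc (FractionRing R) E)) (pullback.snd f (bc (FractionRing R) E)) f
      (bc (FractionRing R) E) := IsPullback.of_hasPullback _ _
  have H4 : IsPullback (pullback.fst f (Spec.map (CommRingCat.ofHom ψ)))
      (pullback.snd f (Spec.map (CommRingCat.ofHom ψ))) f (Spec.map (CommRingCat.ofHom ψ)) :=
    IsPullback.of_hasPullback _ _
  let j : pullback f (bc (FractionRing R) E) ⟶ pullback f (Spec.map (CommRingCat.ofHom ψ)) :=
    H4.lift (pullback.fst f (bc (FractionRing R) E))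
      (pullback.snd f (bc (FractionRing R) E) ≫
        Spec.map (CommRingCat.ofHom (e : FractionRing (Localization.AtPrime M) →+* E)))
      (by rw [Category.assoc, heψ, H3.w])
  have H5 : IsPullback j (pullback.snd f (bc (FractionRing R) E))
      (pullback.snd f (Spec.map (CommRingCat.ofHom ψ)))
      (Spec.map (CommRingCat.ofHom (e : FractionRing (Localization.AtPrime M) →+* E))) := by
    refine IsPullback.of_right ?_ (H4.lift_snd _ _ _) H4
    rw [H4.lift_fst, heψ]
    exact H3
  have H6 := H5.paste_horiz hγ
  rw [← hcomp] at H6
  exact ⟨ψ₀, hψ₀, Y, q, j ≫ γ, H6, hq⟩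

end K263.StabInt
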